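import Groth.Agent.Lib.Semiample.Criterion
import Groth.Agent.Lib.ProjCoh.Generic
import Groth.Agent.Lib.Euler.TensorSupport
import Mathlib.Algebra.MvPolynomial.Funext
import Mathlib.RingTheory.MvPolynomial.Homogeneous

/-!
# Sections of an invertible module: few generators or many independent monomials
-/

set_option autoImplicit false
set_option linter.all false
set_option backward.isDefEq.respectTransparency false

universe u

open CategoryTheory CategoryTheory.Limits AlgebraicGeometry TopologicalSpace Opposite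
open GrothLib.Ample (Cocycle res res_res res_self)

noncomputable section

namespace GrothLib.SemiKappa12

variable (k : Type u) [Field k] {X : Scheme.{u}} [X.Over (Spec (CommRingCat.of k))] (c : Cocycle X)

/-- The constants on an open. -/
def cst (V : X.Opens) : k →+* Γ(X, V) :=
  (res (le_top : V ≤ ⊤)).comp (Coh.toGlobal (X ↘ Spec (CommRingCat.of k)))

theorem res_comp_cst {V W : X.Opens} (h : W ≤ V) : (res h).comp (cst k V) = cst k W :=
  RingHom.ext fun t => res_res _ _ _

theorem eval₂_smul_homogeneous {σ R S : Type*} [CommSemiring R] [CommSemiring S] (f : R →+* S)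
    {P : MvPolynomial σ R} {d : ℕ} (hP : P.IsHomogeneous d) (t : S) (g : σ → S) :
    MvPolynomial.eval₂ f (fun j => t * g j) P = t ^ d * MvPolynomial.eval₂ f g P := by
  rw [MvPolynomial.eval₂_eq, MvPolynomial.eval₂_eq, Finset.mul_sum]
  refine Finset.sum_congr rfl fun m hm => ?_
  have hd : ∑ i ∈ m.support, m i = d := by
    rw [← hP (MvPolynomial.mem_support_iff.1 hm), Finsupp.weight_apply, Finsupp.sum]
    simp
  simp only [mul_pow, Finset.prod_mul_distrib, Finset.prod_pow_eq_pow_sum, hd]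
  ring

/-- A form in a family of sections is a section. -/
def evalSect {r d : ℕ} (a : Fin r → c.sect 1 ⊤) (P : MvPolynomial (Fin r) k) (hP : P.IsHomogeneous d) :
    c.sect d ⊤ :=
  ⟨fun i => MvPolynomial.eval₂ (cst k (⊤ ⊓ c.D i)) (fun j => (a j).1 i) P, fun i j W hi hj => by
    rw [MvPolynomial.eval₂_comp_left, MvPolynomial.eval₂_comp_left, res_comp_cst, res_comp_cst]
    have e : (res hi ∘ fun l => (a l).1 i) =
        fun l => c.G i j (hi.trans inf_le_right) (hj.trans inf_le_right) * (res hj ∘ fun m => (a m).1 j) l :=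
      funext fun l => by
        show res hi ((a l).1 i) = _
        rw [c.sect_spec (a l) i j hi hj, pow_one]
        rfl
    rw [e]
    exact eval₂_smul_homogeneous _ hP _ _⟩

/-- A form vanishing on a family of sections. -/
def PZero {r : ℕ} (a : Fin r → c.sect 1 ⊤) (P : MvPolynomial (Fin r) k) : Prop :=
  ∀ i, MvPolynomial.eval₂ (cst k (⊤ ⊓ c.D i)) (fun j => (a j).1 i) P = 0

/-- No nonzero form vanishes on the family. -/
def Indep {r : ℕ} (a : Fin r → c.sect 1 ⊤) : Prop :=
  ∀ (d : ℕ) (P : MvPolynomial (Fin r) k), P.IsHomogeneous d → PZero k c a P → P = 0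

/-- A dependent generating family can be shortened. -/
theorem exists_fewer [Infinite k] {r : ℕ} (a : Fin (r + 1) → c.sect 1 ⊤) (ha : ⨆ j, c.locus (a j) = ⊤)
    (hnot : ¬ Indep k c a) : ∃ b : Fin r → c.sect 1 ⊤, ⨆ j, c.locus (b j) = ⊤ := by
  unfold Indep at hnot
  push Not at hnot
  obtain ⟨d, P, hP, hz, hP0⟩ := hnot
  obtain ⟨v, hv⟩ : ∃ v : Fin (r + 1) → k, MvPolynomial.eval v (P * MvPolynomial.X (Fin.last r)) ≠ 0 := by
    by_contra h
    push Not at h
    exact mul_ne_zero hP0 (MvPolynomial.X_ne_zero _) (MvPolynomial.funext fun v => by rw [h v, map_zero])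
  rw [map_mul, MvPolynomial.eval_X, mul_ne_zero_iff] at hv
  let q : Fin r → k := fun j => v j.castSucc / v (Fin.last r)
  refine ⟨fun j => a j.castSucc - cst (X := X) k ⊤ (q j) • a (Fin.last r), eq_top_iff.2 fun x _ => ?_⟩
  obtain ⟨j₀, hj₀⟩ := Opens.mem_iSup.1 (ha.ge (Opens.mem_top x))
  obtain ⟨i, hi⟩ := Opens.mem_iSup.1 hj₀
  have hxU : x ∈ (⊤ : X.Opens) ⊓ c.D i := c.basicOpen_le_D (a j₀) i hi
  by_contra hnone
  let f : Γ(X, ⊤ ⊓ c.D i) →+* IsLocalRing.ResidueField (X.presheaf.stalk x) :=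
    (IsLocalRing.residue (X.presheaf.stalk x)).comp (X.presheaf.germ (⊤ ⊓ c.D i) x hxU).hom
  have hf : ∀ t, f t ≠ 0 ↔ x ∈ X.basicOpen t := fun t => by
    rw [Scheme.mem_basicOpen X _ x hxU]
    exact IsLocalRing.residue_ne_zero_iff_isUnit _
  let ψ := f.comp (cst k (⊤ ⊓ c.D i))
  have hψ : ψ (v (Fin.last r)) ≠ 0 := (map_ne_zero_iff ψ ψ.injective).2 hv.2
  have hb : ∀ j, f ((a j).1 i) = ψ (v j) * (f ((a (Fin.last r)).1 i) / ψ (v (Fin.last r))) := by
    intro j
    induction j using Fin.lastCases with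
    | last => rw [mul_div_cancel₀ _ hψ]
    | cast j =>
      have h0 : f ((a j.castSucc - cst (X := X) k ⊤ (q j) • a (Fin.last r)).1 i) = 0 := by
        by_contra h
        exact hnone (Opens.mem_iSup.2 ⟨j, Opens.mem_iSup.2 ⟨i, (hf _).1 h⟩⟩)
      have h1 : (a j.castSucc - cst (X := X) k ⊤ (q j) • a (Fin.last r)).1 i =
          (a j.castSucc).1 i - cst k (⊤ ⊓ c.D i) (q j) * (a (Fin.last r)).1 i := by
        show (a j.castSucc).1 i - res (inf_le_left : (⊤ : X.Opens) ⊓ c.D i ≤ ⊤) (cst (X := X) k ⊤ (q j)) *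
          (a (Fin.last r)).1 i = _
        rw [cst, RingHom.comp_apply, res_res]
        rfl
      rw [h1, map_sub, map_mul, sub_eq_zero] at h0
      rw [h0, show f (cst k (⊤ ⊓ c.D i) (q j)) = ψ (v j.castSucc) / ψ (v (Fin.last r)) from map_div₀ ψ _ _]
      ring
  have h0 : f (MvPolynomial.eval₂ (cst k (⊤ ⊓ c.D i)) (fun j => (a j).1 i) P) = 0 := by rw [hz i, map_zero]
  rw [MvPolynomial.eval₂_comp_left] at h0
  have e1 : (f ∘ fun j => (a j).1 i) =
      fun j => (f ((a (Fin.last r)).1 i) / ψ (v (Fin.last r))) * (ψ ∘ v) j :=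
    funext fun j => by rw [mul_comm]; exact hb j
  rw [e1, eval₂_smul_homogeneous _ hP] at h0
  have e2 : MvPolynomial.eval₂ ψ (ψ ∘ v) P = ψ (MvPolynomial.eval v P) := by
    rw [← MvPolynomial.eval₂_id, MvPolynomial.eval₂_comp_left, RingHom.comp_id]
  rw [show (f.comp (cst k (⊤ ⊓ c.D i))) = ψ from rfl, e2] at h0
  have ht := eq_zero_of_pow_eq_zero ((mul_eq_zero.1 h0).resolve_right ((map_ne_zero_iff ψ ψ.injective).2 hv.1))
  refine (hf _).2 hi ?_
  rw [hb j₀, ht, mul_zero]

/-- Either `m` sections generate, or `m + 1` sections satisfy no relation. -/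
theorem dichotomy [Infinite k] [Nonempty X] (m : ℕ) : ∀ (r : ℕ) (a : Fin r → c.sect 1 ⊤), ⨆ j, c.locus (a j) = ⊤ →
    (∃ b : Fin m → c.sect 1 ⊤, ⨆ j, c.locus (b j) = ⊤) ∨ (∃ b : Fin (m + 1) → c.sect 1 ⊤, Indep k c b) := by
  intro r
  induction r with
  | zero =>
    intro a ha
    have := ha.ge (Opens.mem_top (Classical.arbitrary X))
    rw [iSup_of_empty] at this
    exact this.elim
  | succ r ih =>
    intro a ha
    by_cases hrm : r + 1 ≤ m
    · refine Or.inl ⟨fun j => if h : (j : ℕ) < r + 1 then a ⟨j, h⟩ else 0, eq_top_iff.2 (ha.ge.trans ?_)⟩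
      exact iSup_le fun j => le_iSup_of_le (Fin.castLE hrm j) (le_of_eq (by simp [j.2]))
    by_cases hI : Indep k c a
    · refine Or.inr ⟨fun j => a (Fin.castLE (by omega) j), fun d P hP hz => ?_⟩
      refine MvPolynomial.rename_injective (Fin.castLE (by omega : m + 1 ≤ r + 1))
        (Fin.castLE_injective _) (show _ = MvPolynomial.rename (Fin.castLE (by omega : m + 1 ≤ r + 1)) 0 from ?_)
      rw [map_zero]
      refine hI d _ hP.rename_isHomogeneous fun i => ?_
      rw [MvPolynomial.eval₂_rename]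
      exact hz i
    · obtain ⟨b, hb⟩ := exists_fewer k c a ha hI
      exact ih b hb

/-- Exponents of the monomials used for the count. -/
def expo (m μ : ℕ) (f : Fin m → Fin (μ + 1)) : Fin (m + 1) →₀ ℕ :=
  Finsupp.equivFunOnFinite.symm (Fin.snoc (fun j => (f j : ℕ)) ((m + 1) * μ - ∑ j, (f j : ℕ)))

theorem expo_castSucc {m μ : ℕ} (f : Fin m → Fin (μ + 1)) (j : Fin m) : expo m μ f j.castSucc = f j := by
  simp [expo]

theorem degree_expo {m μ : ℕ} (f : Fin m → Fin (μ + 1)) : (expo m μ f).degree = (m + 1) * μ := by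
  have h : ∑ j, (f j : ℕ) ≤ (m + 1) * μ := by
    refine (Finset.sum_le_card_nsmul _ _ μ fun j _ => Nat.le_of_lt_succ (f j).2).trans ?_
    rw [Finset.card_univ, Fintype.card_fin, smul_eq_mul]
    exact Nat.mul_le_mul_right _ m.le_succ
  rw [Finsupp.degree_eq_sum, Fin.sum_univ_castSucc]
  simp only [expo_castSucc]
  simp [expo]
  omega

theorem expo_injective (m μ : ℕ) : Function.Injective (expo m μ) := fun f g h => funext fun j => Fin.ext (by
  have := DFunLike.congr_fun h j.castSucc
  rwa [expo_castSucc, expo_castSucc] at this)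

/-- Independent sections force growth. -/
theorem pow_le_finrank [IsProper (X ↘ Spec (CommRingCat.of k))] {m : ℕ} {b : Fin (m + 1) → c.sect 1 ⊤}
    (hb : Indep k c b) (μ : ℕ) :
    (μ + 1) ^ m ≤ Module.finrank k (Coh.HH X (c.twist ((m + 1) * μ)) 0) := by
  classical
  haveI := Euler.isNoetherian_of_proper (X := X) k
  haveI := Euler.finiteDimensional_HH k (Euler.isCoh_of_isInvertible (c.isInvertible_twist ((m + 1) * μ))) 0
  have hhom : ∀ (t : k) f, (MvPolynomial.monomial (expo m μ f) t).IsHomogeneous ((m + 1) * μ) :=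
    fun t f => MvPolynomial.isHomogeneous_monomial t (degree_expo f)
  let E := ProjCoh.H0top (c.twist ((m + 1) * μ))
  let σ : (Fin m → Fin (μ + 1)) → Coh.HH X (c.twist ((m + 1) * μ)) 0 := fun f =>
    E.symm (evalSect k c b _ (hhom 1 f))
  have hσ : LinearIndependent k σ := by
    rw [Fintype.linearIndependent_iff]
    intro g hg f
    have h1 : ∑ f, (cst (X := X) k ⊤ (g f)) • evalSect k c b _ (hhom 1 f) = (0 : c.sect ((m + 1) * μ) ⊤) := by
      have h2 := congrArg E hg
      rw [map_sum, map_zero] at h2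
      refine Eq.trans (Finset.sum_congr rfl fun f _ => ?_) h2
      refine ((ProjCoh.H0top_smul (c.twist ((m + 1) * μ)) (g f) (σ f)).trans ?_).symm
      have e1 : E (σ f) = evalSect k c b _ (hhom 1 f) := E.apply_symm_apply _
      rw [e1]
      have e2 : cst (X := X) k ⊤ (g f) = Coh.toGlobal (X ↘ Spec (CommRingCat.of k)) (g f) := res_self _ _
      rw [e2]
    have h3 : PZero k c b (∑ f, MvPolynomial.monomial (expo m μ f) (g f)) := by
      intro i
      have h4 := congrArg (fun s : c.sect ((m + 1) * μ) ⊤ => s.1 i) h1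
      simp only [AddSubgroup.val_finsetSum, Finset.sum_apply] at h4
      rw [MvPolynomial.eval₂_sum]
      refine Eq.trans (Finset.sum_congr rfl fun f _ => ?_) h4
      show _ = res (inf_le_left : (⊤ : X.Opens) ⊓ c.D i ≤ ⊤) (cst (X := X) k ⊤ (g f)) * MvPolynomial.eval₂
        (cst k (⊤ ⊓ c.D i)) (fun j => (b j).1 i) (MvPolynomial.monomial (expo m μ f) 1)
      rw [show res (inf_le_left : (⊤ : X.Opens) ⊓ c.D i ≤ ⊤) (cst (X := X) k ⊤ (g f)) = cst k (⊤ ⊓ c.D i) (g f) from res_res _ _ _, ← mul_one (g f), ← MvPolynomial.C_mul_monomial, MvPolynomial.eval₂_mul, MvPolynomial.eval₂_C, mul_one]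
    have h5 := congrArg (MvPolynomial.coeff (expo m μ f))
      (hb _ _ (MvPolynomial.IsHomogeneous.sum _ _ _ fun f _ => hhom (g f) f) h3)
    simpa [MvPolynomial.coeff_sum, MvPolynomial.coeff_monomial, (expo_injective m μ).eq_iff] using h5
  have := hσ.fintype_card_le_finrank
  simpa using this

end GrothLib.SemiKappa12
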